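import Groth.Agent.CechComp71.Comparison
import Groth.Agent.TopCoh49.Top
import Groth.Agent.Coh69.QCohCech
import Groth.Agent.Pn71.CechH
import Groth.Prelude.Def_Coh
import Groth.Prelude.Def_CohB1

/-! Affine vanishing and Čech = sheaf cohomology for quasi-coherent modules. -/

universe u

open CategoryTheory Limits AlgebraicGeometry TopologicalSpace Opposite

set_option maxSynthPendingDepth 6

namespace Groth.Agent.CechComp71

open TopCoh49 Coh69

variable {X : Scheme.{u}}

/-- Affine opens with their standard coverings. -/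
def affineSystem (X : Scheme.{u}) : CoverSystem X.toTopCat where
  B V := IsAffineOpen (X := X) V
  Cov V ι U := ∃ (_ : IsAffineOpen (X := X) V) (f : ι → Γ(X, V)),
    Finite ι ∧ Ideal.span (Set.range f) = ⊤ ∧ U = fun k => X.basicOpen (f k)
  cov_sup := by
    rintro V ι U ⟨hV, f, -, hf, rfl⟩
    refine le_antisymm (iSup_le fun i => X.basicOpen_le _) ?_
    refine ((hV.self_le_iSup_basicOpen_iff).2 hf).trans (iSup_le ?_)
    rintro ⟨_, i, rfl⟩
    exact le_iSup (fun k => X.basicOpen (f k)) i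
  cov_inter := by
    rintro V ι U ⟨hV, f, -, -, rfl⟩ n i
    exact isAffineOpen_cOpen f hV i
  refine_cov := by
    intro V hV κ W hW
    let S : Set Γ(X, V) := {g | ∃ k, X.basicOpen g ≤ W k}
    have hS : (V : X.Opens) ≤ ⨆ g : S, X.basicOpen g.1 := fun x hx => by
      obtain ⟨k, hk⟩ := Opens.mem_iSup.1 (hW.ge hx)
      obtain ⟨g, hg, hxg⟩ := hV.exists_basicOpen_le (V := W k) ⟨x, hk⟩ hx
      exact Opens.mem_iSup.2 ⟨⟨g, k, hg⟩, hxg⟩
    obtain ⟨T, hT, h1⟩ := Submodule.mem_span_finite_of_mem_span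
      ((hV.self_le_iSup_basicOpen_iff.1 hS).ge (Submodule.mem_top (x := (1 : Γ(X, V)))))
    refine ⟨(T : Set Γ(X, V)), fun g => X.basicOpen g.1, ⟨hV, fun g => g.1, inferInstance, ?_, rfl⟩,
      fun g => hT g.2⟩
    rw [Subtype.range_coe, Ideal.eq_top_iff_one]
    exact h1

lemma coverAcyclic_toAb (M : X.Modules) [M.IsQuasicoherent] :
    CoverAcyclic (affineSystem X) (Coh.toAb M) := by
  rintro V ι U ⟨hV, f, hι, hf, rfl⟩
  exact cechAcyclic_standard M hV hf

theorem subsingleton_E_affine (M : X.Modules) [M.IsQuasicoherent] {V : X.Opens}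
    (hV : IsAffineOpen V) (q : ℕ) : Subsingleton (E (X := X.toTopCat) (Coh.toAb M) (q + 1) V) :=
  subsingleton_E_of_coverAcyclic (C := affineSystem X) q (coverAcyclic_toAb M) hV

theorem subsingleton_HH_affine [IsAffine X] (M : X.Modules) [M.IsQuasicoherent] {p : ℕ}
    (hp : 0 < p) : Subsingleton (Coh.HH X M p) := by
  obtain ⟨q, rfl⟩ : ∃ q, p = q + 1 := ⟨p - 1, by omega⟩
  have := subsingleton_E_affine M (isAffineOpen_top X) q
  exact (HEquivTop (X := X.toTopCat) (Coh.toAb M) (q + 1)).toEquiv.subsingleton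

variable {ι : Type u} (U : ι → X.Opens)

lemma acyclicOn_of_isAffineOpen (M : X.Modules) [M.IsQuasicoherent]
    (h : ∀ (n : ℕ) (i : Fin (n + 1) → ι), IsAffineOpen (cOpen U i)) :
    AcyclicOn U (Coh.toAb M) :=
  fun q n i => subsingleton_E_affine M (h n i) q

/-- Cochains of a module. -/
abbrev MZ (M : X.Modules) (p : ℕ) : Type u := Z U (Coh.toAb M) p

variable (hU : ⨆ i, U i = ⊤)

/-- The natural map from cocycles to cohomology. -/
noncomputable def toHH (M : X.Modules) (p : ℕ) : MZ U M p →+ Coh.HH X M p :=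
  (HEquivTop (X := X.toTopCat) (Coh.toAb M) p).symm.toAddMonoidHom.comp (cechTo U hU (Coh.toAb M) p)

lemma toHH_natural {M N : X.Modules} (φ : Coh.toAb M ⟶ Coh.toAb N) (p : ℕ) (z : MZ U M p) :
    toHH U hU N p (zmap φ p z) = Sheaf.H.map φ p (toHH U hU M p z) := by
  apply (HEquivTop (X := X.toTopCat) (Coh.toAb N) p).injective
  rw [HEquivTop_map]
  simp only [toHH, AddMonoidHom.comp_apply, AddEquiv.coe_toAddMonoidHom, AddEquiv.apply_symm_apply]
  exact cechTo_natural hU p φ z

lemma toHH_smul (M : X.Modules) (r : Coh.Γtop X) (p : ℕ) (z : MZ U M p) :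
    toHH U hU M p (zmap (Coh.smulAb M r) p z) = r • toHH U hU M p z :=
  toHH_natural U hU (Coh.smulAb M r) p z

lemma toHH_zero_bijective (M : X.Modules) : Function.Bijective (toHH U hU M 0) :=
  (HEquivTop (X := X.toTopCat) (Coh.toAb M) 0).symm.bijective.comp
    (zeroEquiv hU (Coh.toAb M)).bijective

variable {U}

lemma toHH_surjective {M : X.Modules} (h : AcyclicOn U (Coh.toAb M)) (p : ℕ) :
    Function.Surjective (toHH U hU M p) :=
  (HEquivTop (X := X.toTopCat) (Coh.toAb M) p).symm.surjective.comp (cechTo_surjective hU p h)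

lemma toHH_eq_zero_iff {M : X.Modules} (h : AcyclicOn U (Coh.toAb M)) (p : ℕ) (z : MZ U M (p + 1)) :
    toHH U hU M (p + 1) z = 0 ↔ ∃ r, cd U M.presheaf p r = z.1 :=
  (HEquivTop (X := X.toTopCat) (Coh.toAb M) (p + 1)).symm.map_eq_zero_iff.trans
    (cechTo_eq_zero_iff hU h p z)

/-- Čech cohomology computes cohomology. -/
noncomputable def cechHEquivHH {M : X.Modules} (h : AcyclicOn U (Coh.toAb M)) :
    ∀ p : ℕ, CohB1.cechH U M p ≃+ Coh.HH X M p
  | 0 => Pn71.cechH0EquivOfKer U M.presheaf (AddEquiv.ofBijective _ (toHH_zero_bijective U hU M))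
  | p + 1 => Pn71.cechHEquivOfKer U M.presheaf p (toHH U hU M (p + 1))
      (toHH_surjective hU h (p + 1)) (toHH_eq_zero_iff hU h p)

end Groth.Agent.CechComp71
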