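import Groth.Agent.TopCoh49.Coh
import Groth.Agent.Coh69.CechAcyclic

/-! Cartan's vanishing criterion, and left exactness of Čech cochains. -/

universe u

open CategoryTheory Limits TopologicalSpace Opposite Abelian

namespace Groth.Agent.CechComp71

open TopCoh49 Coh69

variable {X : TopCat.{u}} {S : ShortComplex (CohTop.Ab X)} (hS : S.ShortExact)

include hS in
lemma app_injective (V : Opens X) : Function.Injective (S.f.hom.app (op V)) := by
  have := hS.mono_f
  intro a b h
  apply (E₀ S.X₁ V).symm.injective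
  obtain ⟨φ, hφ⟩ := (Ext.mk₀_bijective _ _).surjective ((E₀ S.X₁ V).symm a)
  obtain ⟨ψ, hψ⟩ := (Ext.mk₀_bijective _ _).surjective ((E₀ S.X₁ V).symm b)
  rw [← hφ, ← hψ]
  have ha : freeHomEquiv V _ φ = a := by rw [← E₀_mk₀, hφ, AddEquiv.apply_symm_apply]
  have hb : freeHomEquiv V _ ψ = b := by rw [← E₀_mk₀, hψ, AddEquiv.apply_symm_apply]
  congr 1
  refine (cancel_mono S.f).1 ((freeHomEquiv V _).injective ?_)
  rw [freeHomEquiv_comp, freeHomEquiv_comp, ha, hb, h]

include hS in
lemma app_exact (V : Opens X) (t : S.X₂.obj.obj (op V)) (ht : S.g.hom.app (op V) t = 0) :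
    ∃ s, S.f.hom.app (op V) s = t := by
  obtain ⟨y, hy⟩ := exact₂ hS 0 V ((E₀ S.X₂ V).symm t) ((E₀ S.X₃ V).injective (by
    rw [E₀_emap, AddEquiv.apply_symm_apply, ht, map_zero]))
  exact ⟨E₀ S.X₁ V y, by rw [← E₀_emap, hy, AddEquiv.apply_symm_apply]⟩

lemma app_comp_zero (V : Opens X) (s : S.X₁.obj.obj (op V)) :
    S.g.hom.app (op V) (S.f.hom.app (op V) s) = 0 := by
  have h := congrArg (fun φ : S.X₁ ⟶ S.X₃ => φ.hom.app (op V) s) S.zero
  exact h

include hS in
lemma app_surjective {V : Opens X} (h : Subsingleton (E S.X₁ 1 V)) :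
    Function.Surjective (S.g.hom.app (op V)) := fun z => by
  obtain ⟨y, hy⟩ := exact₃ hS (zero_add 1) V ((E₀ S.X₃ V).symm z) (Subsingleton.elim _ _)
  exact ⟨E₀ S.X₂ V y, by rw [← E₀_emap, hy, AddEquiv.apply_symm_apply]⟩

variable {ι : Type u} (U : ι → Opens X)

include hS in
lemma cmap_injective (n : ℕ) : Function.Injective (cmap U S.f.hom n) := fun _ _ h =>
  funext fun i => app_injective hS _ (congrFun h i)

include hS in
lemma cmap_exact (n : ℕ) (t : Cochain U S.X₂.obj n) (ht : cmap U S.g.hom n t = 0) :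
    ∃ s, cmap U S.f.hom n s = t := by
  choose s hs using fun i => app_exact hS _ (t i) (congrFun ht i)
  exact ⟨s, funext hs⟩

lemma cmap_comp_zero (n : ℕ) (s : Cochain U S.X₁.obj n) :
    cmap U S.g.hom n (cmap U S.f.hom n s) = 0 := funext fun _ => app_comp_zero _ _

/-- Every intersection of members of `U` has vanishing `H¹`. -/
abbrev AcyclicOne (F : CohTop.Ab X) : Prop :=
  ∀ (n : ℕ) (i : Fin (n + 1) → ι), Subsingleton (E F 1 (cOpen U i))

include hS in
lemma cmap_surjective (h : AcyclicOne U S.X₁) (n : ℕ) :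
    Function.Surjective (cmap U S.g.hom n) := fun z => by
  choose t ht using fun i => app_surjective hS (h n i) (z i)
  exact ⟨t, funext ht⟩

include hS in
lemma cechAcyclic_X₃ (h : AcyclicOne U S.X₁) (h₁ : CechAcyclic U S.X₁.obj)
    (h₂ : CechAcyclic U S.X₂.obj) : CechAcyclic U S.X₃.obj := by
  intro n z hz
  obtain ⟨t, rfl⟩ := cmap_surjective hS U h (n + 1) z
  rw [cd_cmap] at hz
  obtain ⟨s, hs⟩ := cmap_exact hS U (n + 2) _ hz
  obtain ⟨r, rfl⟩ := h₁ (n + 1) s (cmap_injective hS U _ (by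
    rw [← cd_cmap, hs, cd_cd, map_zero]))
  obtain ⟨b, hb⟩ := h₂ n (t - cmap U S.f.hom (n + 1) r) (by
    rw [map_sub, cd_cmap, hs, sub_self])
  refine ⟨cmap U S.g.hom n b, ?_⟩
  rw [cd_cmap, hb, map_sub, cmap_comp_zero, sub_zero]

end Groth.Agent.CechComp71

namespace Groth.Agent.CechComp71

open TopCoh49 Coh69

/-- A class of opens with a supply of coverings, cofinal and stable under intersection. -/
structure CoverSystem (X : TopCat.{u}) where
  /-- the distinguished opens -/
  B : Opens X → Prop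
  /-- the distinguished coverings -/
  Cov : Opens X → ∀ ι : Type u, (ι → Opens X) → Prop
  cov_sup : ∀ {V ι U}, Cov V ι U → ⨆ i, U i = V
  cov_inter : ∀ {V ι U}, Cov V ι U → ∀ (n : ℕ) (i : Fin (n + 1) → ι), B (cOpen U i)
  refine_cov : ∀ {V}, B V → ∀ (κ : Type u) (W : κ → Opens X), ⨆ k, W k = V →
    ∃ (ι : Type u) (U : ι → Opens X), Cov V ι U ∧ ∀ i, ∃ k, U i ≤ W k

variable {X : TopCat.{u}} (C : CoverSystem X)

/-- Čech acyclicity for all distinguished coverings. -/
def CoverAcyclic (F : CohTop.Ab X) : Prop :=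
  ∀ {V ι U}, C.Cov V ι U → CechAcyclic U F.obj

variable {C}

lemma subsingleton_E_one {F : CohTop.Ab X} (hF : CoverAcyclic C F) {V : Opens X} (hV : C.B V) :
    Subsingleton (E F 1 V) := by
  refine subsingleton_of_forall_eq 0 fun x => ?_
  have hS := injSES_shortExact F
  have := subsingleton_E_of_injective (Injective.under F) 0 V
  obtain ⟨y, rfl⟩ := exact₁ hS (zero_add 1) V x
    (Subsingleton.elim (α := E (Injective.under F) 1 V) _ _)
  obtain ⟨W, hW, t, hsup, ht⟩ := exists_local_preimage (injSES F).g V (E₀ _ V y)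
  obtain ⟨ι, U, hU, href⟩ := C.refine_cov hV _ W hsup
  choose k hk using href
  have hUV : ∀ i, U i ≤ V := fun i => (hk i).trans (hW _)
  let z : (injSES F).X₃.obj.obj (op V) := E₀ _ V y
  let t0 : Cochain U (injSES F).X₂.obj 0 :=
    fun i => res _ ((cOpen_le U i 0).trans (hk (i 0))) (t (k (i 0)))
  have ht0 : ∀ i, (injSES F).g.hom.app _ (t0 i) =
      res (injSES F).X₃.obj ((cOpen_le U i 0).trans (hUV (i 0))) z := fun i =>
    (hom_res (injSES F).g.hom _ (t (k (i 0)))).trans
      ((congrArg _ (ht (k (i 0)))).trans (res_res _ _ (hW _) z))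
  have hg : cmap U (injSES F).g.hom 1 (cd U _ 0 t0) = 0 := by
    rw [← cd_cmap]
    funext i
    rw [cd_apply, Fin.sum_univ_two]
    simp only [cmap_apply, ht0, res_res]
    simp
  obtain ⟨s, hs⟩ := cmap_exact hS U 1 _ hg
  obtain ⟨r, rfl⟩ := hF hU 0 s (cmap_injective hS U _ (by rw [← cd_cmap, hs, cd_cd, map_zero]))
  rw [← cd_cmap] at hs
  -- `t0 - f r` glues
  let c := t0 - cmap U (injSES F).f.hom 0 r
  have hc : cd U _ 0 c = 0 := by rw [map_sub, hs, sub_self]
  let W' : ι → Opens X := fun i => cOpen U (fun _ : Fin 1 => i)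
  have hW'sup : V ≤ ⨆ i, W' i :=
    (C.cov_sup hU).ge.trans (iSup_mono fun i => le_cOpen U fun _ => le_rfl)
  have hW'V : ∀ i, W' i ≤ V := fun i => (cOpen_le U _ 0).trans (hUV i)
  obtain ⟨g, hgl⟩ := sheaf_glue (injSES F).X₂ W' hW'sup hW'V (fun i => c fun _ => i) (fun a b => by
    have h := congrFun hc ![a, b]
    rw [cd_apply, Fin.sum_univ_two] at h
    simp only [Fin.val_zero, pow_zero, one_smul, Fin.val_one, pow_one, neg_smul, one_smul,
      Pi.zero_apply] at h
    have hle : W' a ⊓ W' b ≤ cOpen U ![a, b] :=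
      le_cOpen U fun j => by
        fin_cases j
        · exact inf_le_left.trans (cOpen_le U _ 0)
        · exact inf_le_right.trans (cOpen_le U _ 0)
    have h' := congrArg (res (injSES F).X₂.obj hle) (sub_eq_zero.1 ((sub_eq_add_neg _ _).trans h))
    rw [res_res, res_res] at h'
    rw [cochain_congr U _ c (i' := fun _ => b) (i := ![a, b] ∘ (0 : Fin 2).succAbove)
        (funext fun j => by fin_cases j; rfl),
      cochain_congr U _ c (i' := fun _ => a) (i := ![a, b] ∘ (1 : Fin 2).succAbove)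
        (funext fun j => by fin_cases j; rfl)] at h'
    exact h'.symm)
  have hy : emap (injSES F).g 0 V ((E₀ _ V).symm g) = y := by
    apply (E₀ _ V).injective
    rw [E₀_emap, AddEquiv.apply_symm_apply]
    refine sheaf_ext (injSES F).X₃ W' hW'sup hW'V _ _ fun i => ?_
    rw [← hom_res, hgl]
    simp only [c, Pi.sub_apply, map_sub, cmap_apply]
    rw [app_comp_zero (S := injSES F), sub_zero]
    exact (ht0 _).trans rfl
  rw [← hy, δ_emap_g]

/-- Cartan's criterion. -/
theorem subsingleton_E_of_coverAcyclic : ∀ (q : ℕ) {F : CohTop.Ab X}, CoverAcyclic C F →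
    ∀ {V : Opens X}, C.B V → Subsingleton (E F (q + 1) V) := by
  intro q
  induction q with
  | zero => exact fun {F} hF {V} hV => subsingleton_E_one hF hV
  | succ q ih =>
    intro F hF V hV
    have hS := injSES_shortExact F
    have hQ : CoverAcyclic C (injSES F).X₃ := fun {W ι U} hU =>
      cechAcyclic_X₃ hS U (fun n i => subsingleton_E_one hF (C.cov_inter hU n i)) (hF hU)
        (cechAcyclic_of_injective U (Injective.under F))
    have := ih hQ hV
    exact (δ_bijective hS (rfl : q + 1 + 1 = q + 2) V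
      (subsingleton_E_of_injective (Injective.under F) q V)
      (subsingleton_E_of_injective (Injective.under F) (q + 1) V)).2.subsingleton

end Groth.Agent.CechComp71
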