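import Groth.Agent.CechComp71.Cartan

/-! The natural map from Čech cocycles to sheaf cohomology, by dimension shifting. -/

universe u

open CategoryTheory Limits TopologicalSpace Opposite Abelian

namespace Groth.Agent.CechComp71

open TopCoh49 Coh69

variable {X : TopCat.{u}} {ι : Type u} {U : ι → Opens X}

/-- Čech cocycles of an abelian sheaf. -/
abbrev Z (U : ι → Opens X) (F : CohTop.Ab X) (p : ℕ) : Type u := (cd U F.obj p).ker

/-- Functoriality of cocycles. -/
noncomputable def zmap {F G : CohTop.Ab X} (φ : F ⟶ G) (p : ℕ) : Z U F p →+ Z U G p :=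
  ((cmap U φ.hom p).comp (cd U F.obj p).ker.subtype).codRestrict _ fun z => by
    rw [AddMonoidHom.mem_ker]
    refine (cd_cmap U φ.hom p z.1).trans ?_
    rw [z.2, map_zero]

@[simp] lemma zmap_val {F G : CohTop.Ab X} (φ : F ⟶ G) (p : ℕ) (z : Z U F p) :
    (zmap φ p z).1 = cmap U φ.hom p z.1 := rfl

/-- A global section as a `0`-cocycle. -/
noncomputable def ofGlobal (U : ι → Opens X) (F : CohTop.Ab X) : F.obj.obj (op ⊤) →+ Z U F 0 where
  toFun g := ⟨fun _ => res F.obj le_top g, by
    rw [AddMonoidHom.mem_ker]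
    funext i
    rw [cd_apply, Fin.sum_univ_two]
    simp only [res_res]
    simp⟩
  map_zero' := Subtype.ext (funext fun _ => map_zero _)
  map_add' a b := Subtype.ext (funext fun _ => map_add _ a b)

lemma ofGlobal_bijective (hU : ⨆ i, U i = ⊤) (F : CohTop.Ab X) :
    Function.Bijective (ofGlobal U F) := by
  let W : ι → Opens X := fun i => cOpen U (fun _ : Fin 1 => i)
  have hW : (⊤ : Opens X) ≤ ⨆ i, W i :=
    hU.ge.trans (iSup_mono fun i => le_cOpen U fun _ => le_rfl)
  constructor
  · intro a b h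
    exact sheaf_ext F W hW (fun _ => le_top) a b fun k =>
      congrFun (congrArg Subtype.val h) fun _ => k
  · intro z
    obtain ⟨g, hg⟩ := sheaf_glue F W hW (fun _ => le_top) (fun i => z.1 fun _ => i) (fun a b => by
      have h := congrFun z.2 ![a, b]
      rw [cd_apply, Fin.sum_univ_two] at h
      simp only [Fin.val_zero, pow_zero, one_smul, Fin.val_one, pow_one, neg_smul, one_smul,
        Pi.zero_apply] at h
      have hle : W a ⊓ W b ≤ cOpen U ![a, b] :=
        le_cOpen U fun j => by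
          fin_cases j
          · exact inf_le_left.trans (cOpen_le U _ 0)
          · exact inf_le_right.trans (cOpen_le U _ 0)
      have h' := congrArg (res F.obj hle) (sub_eq_zero.1 ((sub_eq_add_neg _ _).trans h))
      rw [res_res, res_res] at h'
      rw [cochain_congr U _ z.1 (i' := fun _ => b) (i := ![a, b] ∘ (0 : Fin 2).succAbove)
          (funext fun j => by fin_cases j; rfl),
        cochain_congr U _ z.1 (i' := fun _ => a) (i := ![a, b] ∘ (1 : Fin 2).succAbove)
          (funext fun j => by fin_cases j; rfl)] at h'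
      exact h'.symm)
    refine ⟨g, Subtype.ext (funext fun i => ?_)⟩
    obtain ⟨k, rfl⟩ : ∃ k, i = fun _ => k := ⟨i 0, funext fun j => by rw [Fin.fin_one_eq_zero j]⟩
    exact hg k

/-- Sections over the whole space as `0`-cocycles. -/
noncomputable def zeroEquiv (hU : ⨆ i, U i = ⊤) (F : CohTop.Ab X) : Z U F 0 ≃+ E F 0 ⊤ :=
  (AddEquiv.ofBijective _ (ofGlobal_bijective hU F)).symm.trans (E₀ F ⊤).symm

lemma zeroEquiv_ofGlobal (hU : ⨆ i, U i = ⊤) (F : CohTop.Ab X) (g : F.obj.obj (op ⊤)) :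
    zeroEquiv hU F (ofGlobal U F g) = (E₀ F ⊤).symm g :=
  congrArg (E₀ F ⊤).symm
    ((AddEquiv.ofBijective _ (ofGlobal_bijective hU F)).symm_apply_apply g)

lemma zeroEquiv_zmap (hU : ⨆ i, U i = ⊤) {F G : CohTop.Ab X} (φ : F ⟶ G) (z : Z U F 0) :
    zeroEquiv hU G (zmap φ 0 z) = emap φ 0 ⊤ (zeroEquiv hU F z) := by
  obtain ⟨g, rfl⟩ := (ofGlobal_bijective hU F).2 z
  have h : zmap φ 0 (ofGlobal U F g) = ofGlobal U G (φ.hom.app (op ⊤) g) :=
    Subtype.ext (funext fun i => hom_res φ.hom _ g)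
  apply (E₀ G ⊤).injective
  rw [h, E₀_emap, zeroEquiv_ofGlobal, zeroEquiv_ofGlobal, AddEquiv.apply_symm_apply,
    AddEquiv.apply_symm_apply]

variable (U)

/-- The property carried along the recursion: the shifted map kills cocycles of the injective. -/
def Kills (p : ℕ) (Φ : ∀ F, Z U F p →+ E F p ⊤) : Prop :=
  ∀ (F : CohTop.Ab X) (b : Z U (Injective.under F) p),
    δ (injSES_shortExact F) rfl ⊤ (Φ (injSES F).X₃ (zmap (injSES F).g p b)) = 0

variable {U}

lemma exists_lift (F : CohTop.Ab X) (p : ℕ) (s : Z U F (p + 1)) :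
    ∃ t : Cochain U (Injective.under F).obj p,
      cd U _ p t = cmap U (injSES F).f.hom (p + 1) s.1 :=
  cechAcyclic_of_injective U (Injective.under F) p _ (by
    refine (cd_cmap U (injSES F).f.hom (p + 1) s.1).trans ?_
    rw [s.2, map_zero])

/-- The image in the quotient of a lift. -/
noncomputable def liftZ (F : CohTop.Ab X) {p : ℕ} (s : Z U F (p + 1))
    (t : Cochain U (Injective.under F).obj p)
    (ht : cd U _ p t = cmap U (injSES F).f.hom (p + 1) s.1) : Z U (injSES F).X₃ p :=
  ⟨cmap U (injSES F).g.hom p t, by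
    rw [AddMonoidHom.mem_ker]
    refine (cd_cmap U (injSES F).g.hom p t).trans ?_
    rw [ht]
    exact cmap_comp_zero (S := injSES F) U (p + 1) s.1⟩

variable {p : ℕ} (Φ : ∀ F, Z U F p →+ E F p ⊤) (hΦ : Kills U p Φ)

include hΦ in
lemma step_well_defined (F : CohTop.Ab X) (s : Z U F (p + 1))
    (t t' : Cochain U (Injective.under F).obj p)
    (ht : cd U _ p t = cmap U (injSES F).f.hom (p + 1) s.1)
    (ht' : cd U _ p t' = cmap U (injSES F).f.hom (p + 1) s.1) :
    δ (injSES_shortExact F) rfl ⊤ (Φ _ (liftZ F s t ht)) =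
      δ (injSES_shortExact F) rfl ⊤ (Φ _ (liftZ F s t' ht')) := by
  have h := hΦ F ⟨t - t', by
    rw [AddMonoidHom.mem_ker, map_sub]
    exact (congrArg₂ (· - ·) ht ht').trans (sub_self _)⟩
  have e : zmap (injSES F).g p ⟨t - t', by
      rw [AddMonoidHom.mem_ker, map_sub]
      exact (congrArg₂ (· - ·) ht ht').trans (sub_self _)⟩ = liftZ F s t ht - liftZ F s t' ht' :=
    Subtype.ext (map_sub (cmap U (injSES F).g.hom p) t t')
  rwa [e, map_sub, map_sub, sub_eq_zero] at h

/-- The shifted map. -/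
noncomputable def step (F : CohTop.Ab X) : Z U F (p + 1) →+ E F (p + 1) ⊤ :=
  AddMonoidHom.mk'
    (fun s => δ (injSES_shortExact F) rfl ⊤
      (Φ _ (liftZ F s (exists_lift F p s).choose (exists_lift F p s).choose_spec)))
    (fun a b => by
      rw [step_well_defined Φ hΦ F (a + b) _
        ((exists_lift F p a).choose + (exists_lift F p b).choose)
        (exists_lift F p (a + b)).choose_spec (by
          rw [map_add, (exists_lift F p a).choose_spec, (exists_lift F p b).choose_spec, ← map_add]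
          rfl)]
      refine Eq.trans ?_ (map_add (δ (injSES_shortExact F) rfl ⊤) _ _)
      congr 1
      refine Eq.trans ?_ (map_add (Φ _) _ _)
      congr 1
      exact Subtype.ext (map_add (cmap U (injSES F).g.hom p) _ _))

lemma step_eq (F : CohTop.Ab X) (s : Z U F (p + 1)) (t : Cochain U (Injective.under F).obj p)
    (ht : cd U _ p t = cmap U (injSES F).f.hom (p + 1) s.1) :
    step Φ hΦ F s = δ (injSES_shortExact F) rfl ⊤ (Φ _ (liftZ F s t ht)) :=
  step_well_defined Φ hΦ F s _ t _ ht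

lemma step_coboundary (F : CohTop.Ab X) (s : Z U F (p + 1)) (r : Cochain U F.obj p)
    (hr : cd U _ p r = s.1) : step Φ hΦ F s = 0 := by
  rw [step_eq Φ hΦ F s (cmap U (injSES F).f.hom p r)
    ((cd_cmap U (injSES F).f.hom p r).trans (congrArg _ hr))]
  rw [show liftZ F s _ _ = 0 from Subtype.ext (cmap_comp_zero (S := injSES F) U p r), map_zero, map_zero]

lemma step_kills : Kills U (p + 1) (step Φ hΦ) := fun F b => by
  obtain ⟨b', hb⟩ := cechAcyclic_of_injective U (Injective.under F) p b.1 b.2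
  rw [step_coboundary Φ hΦ _ _ (cmap U (injSES F).g.hom p b')
    ((cd_cmap U (injSES F).g.hom p b').trans (congrArg _ hb)), map_zero]

variable (U) in
/-- All the maps, with the property. -/
noncomputable def cechToData (hU : ⨆ i, U i = ⊤) :
    ∀ p : ℕ, {Φ : ∀ F, Z U F p →+ E F p ⊤ // Kills U p Φ}
  | 0 => ⟨fun F => (zeroEquiv hU F).toAddMonoidHom, fun F b => by
      change δ _ _ _ (zeroEquiv hU _ (zmap _ 0 b)) = 0
      rw [zeroEquiv_zmap, δ_emap_g]⟩
  | p + 1 => ⟨step _ (cechToData hU p).2, step_kills _ _⟩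

variable (U) in
/-- The natural map from Čech cocycles to cohomology. -/
noncomputable def cechTo (hU : ⨆ i, U i = ⊤) (F : CohTop.Ab X) (p : ℕ) : Z U F p →+ E F p ⊤ :=
  (cechToData U hU p).1 F

variable (hU : ⨆ i, U i = ⊤)

lemma cechTo_zero (F : CohTop.Ab X) (z : Z U F 0) : cechTo U hU F 0 z = zeroEquiv hU F z := rfl

lemma cechTo_succ (F : CohTop.Ab X) (p : ℕ) (s : Z U F (p + 1))
    (t : Cochain U (Injective.under F).obj p)
    (ht : cd U _ p t = cmap U (injSES F).f.hom (p + 1) s.1) :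
    cechTo U hU F (p + 1) s = δ (injSES_shortExact F) rfl ⊤ (cechTo U hU _ p (liftZ F s t ht)) :=
  step_eq _ (cechToData U hU p).2 F s t ht

lemma cechTo_coboundary (F : CohTop.Ab X) (p : ℕ) (s : Z U F (p + 1)) (r : Cochain U F.obj p)
    (hr : cd U _ p r = s.1) : cechTo U hU F (p + 1) s = 0 :=
  step_coboundary _ (cechToData U hU p).2 F s r hr

lemma emap_δ {S S' : ShortComplex (CohTop.Ab X)} (hS : S.ShortExact) (hS' : S'.ShortExact)
    (f : S ⟶ S') {n m : ℕ} (h : n + 1 = m) (V : Opens X) (y : E S.X₃ n V) :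
    emap f.τ₁ m V (δ hS h V y) = δ hS' h V (emap f.τ₃ n V y) := by
  simp only [δ, emap, Ext.postcomp, AddMonoidHom.flip_apply, Ext.bilinearComp_apply_apply]
  rw [Ext.comp_assoc y hS.extClass (Ext.mk₀ f.τ₁) h (add_zero 1) (by omega),
    hS.extClass_naturality hS' f, ← Ext.comp_assoc y (Ext.mk₀ f.τ₃) hS'.extClass (add_zero n)
      (zero_add 1) (by omega)]

/-- A lift of a morphism to the injective embeddings. -/
noncomputable def injSESMap {F G : CohTop.Ab X} (φ : F ⟶ G) : injSES F ⟶ injSES G :=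
  ShortComplex.homMk φ (Injective.factorThru (φ ≫ Injective.ι G) (Injective.ι F))
    (cokernel.map _ _ φ (Injective.factorThru (φ ≫ Injective.ι G) (Injective.ι F))
      (Injective.comp_factorThru _ _))
    (Injective.comp_factorThru _ _).symm (cokernel.π_desc _ _ _).symm

theorem cechTo_natural : ∀ (p : ℕ) {F G : CohTop.Ab X} (φ : F ⟶ G) (z : Z U F p),
    cechTo U hU G p (zmap φ p z) = emap φ p ⊤ (cechTo U hU F p z) := by
  intro p
  induction p with
  | zero => exact fun φ z => zeroEquiv_zmap hU φ z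
  | succ p ih =>
    intro F G φ z
    obtain ⟨t, ht⟩ := exists_lift F p z
    let f := injSESMap φ
    have ht' : cd U _ p (cmap U f.τ₂.hom p t) = cmap U (injSES G).f.hom (p + 1) (zmap φ (p + 1) z).1 := by
      refine (cd_cmap U f.τ₂.hom p t).trans ?_
      rw [ht]
      funext i
      exact (congrArg (fun ψ : (injSES F).X₁ ⟶ (injSES G).X₂ => ψ.hom.app (op (cOpen U i)) (z.1 i))
        f.comm₁₂).symm
    rw [cechTo_succ hU F p z t ht, cechTo_succ hU G p _ _ ht']
    have e : liftZ G (zmap φ (p + 1) z) _ ht' = zmap f.τ₃ p (liftZ F z t ht) := by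
      refine Subtype.ext (funext fun i => ?_)
      exact congrArg (fun ψ : (injSES F).X₂ ⟶ (injSES G).X₃ => ψ.hom.app (op (cOpen U i)) (t i))
        f.comm₂₃
    rw [e, ih f.τ₃]
    exact (emap_δ (injSES_shortExact F) (injSES_shortExact G) f rfl ⊤ _).symm

/-- Vanishing of all higher cohomology on all intersections. -/
def AcyclicOn (U : ι → Opens X) (F : CohTop.Ab X) : Prop :=
  ∀ (q n : ℕ) (i : Fin (n + 1) → ι), Subsingleton (E F (q + 1) (cOpen U i))

lemma AcyclicOn.next {F : CohTop.Ab X} (h : AcyclicOn U F) : AcyclicOn U (injSES F).X₃ :=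
  fun q n i => by
    have := h (q + 1) n i
    exact (δ_bijective (injSES_shortExact F) (rfl : q + 1 + 1 = q + 2) (cOpen U i)
      (subsingleton_E_of_injective (Injective.under F) q _)
      (subsingleton_E_of_injective (Injective.under F) (q + 1) _)).1.subsingleton

theorem cechTo_surjective : ∀ (p : ℕ) {F : CohTop.Ab X}, AcyclicOn U F →
    Function.Surjective (cechTo U hU F p) := by
  intro p
  induction p with
  | zero => exact fun {F} _ => (zeroEquiv hU F).surjective
  | succ p ih =>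
    intro F h x
    have hS := injSES_shortExact F
    have := subsingleton_E_of_injective (Injective.under F) p (⊤ : Opens X)
    obtain ⟨y, rfl⟩ := exact₁ hS rfl ⊤ x
      (Subsingleton.elim (α := E (Injective.under F) (p + 1) ⊤) _ _)
    obtain ⟨z, rfl⟩ := ih h.next y
    obtain ⟨t, ht⟩ := cmap_surjective hS U (h 0) p z.1
    obtain ⟨s, hs⟩ := cmap_exact hS U (p + 1) (cd U _ p t) (by rw [← cd_cmap, ht]; exact z.2)
    have hs0 : s ∈ (cd U F.obj (p + 1)).ker := cmap_injective hS U (p + 2) (by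
      rw [← cd_cmap, hs, cd_cd, map_zero])
    refine ⟨⟨s, hs0⟩, ?_⟩
    rw [cechTo_succ hU F p ⟨s, hs0⟩ t hs.symm]
    congr 2
    exact Subtype.ext ht

theorem exists_of_cechTo_eq_zero : ∀ (p : ℕ) {F : CohTop.Ab X}, AcyclicOn U F →
    ∀ s : Z U F (p + 1), cechTo U hU F (p + 1) s = 0 → ∃ r, cd U F.obj p r = s.1 := by
  intro p
  induction p with
  | zero =>
    intro F _ s hs0
    have hS := injSES_shortExact F
    obtain ⟨t, ht⟩ := exists_lift F 0 s
    rw [cechTo_succ hU F 0 s t ht] at hs0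
    obtain ⟨w, hw⟩ := exact₃ hS rfl ⊤ _ hs0
    obtain ⟨b, rfl⟩ := (zeroEquiv hU (injSES F).X₂).surjective w
    rw [← zeroEquiv_zmap, cechTo_zero] at hw
    have hb := congrArg Subtype.val ((zeroEquiv hU _).injective hw)
    obtain ⟨r, hr⟩ := cmap_exact hS U 0 (t - b.1) (by rw [map_sub, sub_eq_zero]; exact hb.symm)
    refine ⟨r, cmap_injective hS U 1 ?_⟩
    rw [← cd_cmap, hr, map_sub, b.2, sub_zero]
    exact ht
  | succ p ih =>
    intro F h s hs0
    have hS := injSES_shortExact F
    obtain ⟨t, ht⟩ := exists_lift F (p + 1) s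
    rw [cechTo_succ hU F (p + 1) s t ht] at hs0
    have hb := δ_bijective hS (rfl : p + 1 + 1 = p + 2) (⊤ : Opens X)
      (subsingleton_E_of_injective (Injective.under F) p ⊤)
      (subsingleton_E_of_injective (Injective.under F) (p + 1) ⊤)
    obtain ⟨z, hz⟩ := ih h.next _ (hb.1 (hs0.trans (map_zero _).symm))
    obtain ⟨t₀, rfl⟩ := cmap_surjective hS U (h 0) p z
    rw [cd_cmap] at hz
    obtain ⟨r, hr⟩ := cmap_exact hS U (p + 1) (t - cd U _ p t₀) (by
      rw [map_sub, sub_eq_zero]; exact hz.symm)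
    refine ⟨r, cmap_injective hS U (p + 2) ?_⟩
    rw [← cd_cmap, hr, map_sub, cd_cd, sub_zero]
    exact ht

lemma cechTo_eq_zero_iff {F : CohTop.Ab X} (h : AcyclicOn U F) (p : ℕ) (s : Z U F (p + 1)) :
    cechTo U hU F (p + 1) s = 0 ↔ ∃ r, cd U F.obj p r = s.1 :=
  ⟨exists_of_cechTo_eq_zero hU p h s, fun ⟨r, hr⟩ => cechTo_coboundary hU F p s r hr⟩

end Groth.Agent.CechComp71
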